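import Groth.Agent.ClosedUniv5.LE
import Mathlib.CategoryTheory.Monoidal.Cartesian.Over
import Mathlib.CategoryTheory.Monoidal.Cartesian.Grp

/-!
# The universal closed subscheme over which a finite flat closed subscheme of a group is a subgroup
-/

set_option autoImplicit false
set_option backward.isDefEq.respectTransparency.types false

universe u

open CategoryTheory CategoryTheory.Limits AlgebraicGeometry MonoidalCategory CartesianMonoidalCategory
open scoped MonObj GrpObj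

namespace Groth.Agent.ClosedUniv5

/-- On `T`, the morphism `h : Z → X` sends `Z_T` into `V(𝓘)`. -/
def Into {X S Z : Scheme.{u}} (q : Z ⟶ S) (h : Z ⟶ X) (𝓘 : X.IdealSheafData) {T : Scheme.{u}} (g : T ⟶ S) :
    Prop :=
  ∀ (T' : Scheme.{u}) (a : T' ⟶ T) (z : T' ⟶ Z), z ≫ q = a ≫ g →
    ∃ m : T' ⟶ 𝓘.subscheme, m ≫ 𝓘.subschemeι = z ≫ h

/-- `Into` is a closed condition for finite flat `Z`. -/
theorem exists_closed_into {X S Z : Scheme.{u}} (q : Z ⟶ S) [IsFinite q] [Flat q]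
    [LocallyOfFinitePresentation q] (h : Z ⟶ X) (𝓘 : X.IdealSheafData) :
    ∃ 𝓩 : S.IdealSheafData, ∀ (T : Scheme.{u}) (g : T ⟶ S), 𝓩 ≤ g.ker ↔ Into q h 𝓘 g := by
  obtain ⟨W, i, hi, hW, -⟩ := SGA3cLib.WeilRes.exists_closedImmersion q (pullback.snd 𝓘.subschemeι h)
    (essFree_of_finite_flat _)
  refine ⟨i.ker, fun T g => ?_⟩
  have hfac : i.ker ≤ g.ker ↔ ∃ z, z ≫ i = g :=
    ⟨fun h => ⟨IsClosedImmersion.lift i g h, IsClosedImmersion.lift_fac _ _ _⟩,
      fun ⟨z, hz⟩ => hz ▸ Scheme.Hom.le_ker_comp _ _⟩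
  rw [hfac, ← hW T g]
  constructor
  · rintro ⟨l, hl⟩ T' a z hz
    refine ⟨pullback.lift z a hz ≫ l ≫ pullback.fst _ _, ?_⟩
    simp only [Category.assoc, pullback.condition, reassoc_of% hl, pullback.lift_fst_assoc]
  · intro H
    obtain ⟨m, hm⟩ := H _ (pullback.snd q g) (pullback.fst q g) pullback.condition
    exact ⟨pullback.lift m (pullback.fst q g) hm, pullback.lift_snd _ _ _⟩

/-- Factoring through the closed subscheme of `𝓩`. -/
theorem factors_iff {S T : Scheme.{u}} (𝓩 : S.IdealSheafData) (g : T ⟶ S) :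
    (∃ t : T ⟶ 𝓩.subscheme, t ≫ 𝓩.subschemeι = g) ↔ 𝓩 ≤ g.ker := by
  constructor
  · rintro ⟨t, rfl⟩
    conv_lhs => rw [← 𝓩.ker_subschemeι]
    exact Scheme.Hom.le_ker_comp _ _
  · intro h
    exact ⟨IsClosedImmersion.lift 𝓩.subschemeι g (by rw [Scheme.IdealSheafData.ker_subschemeι]; exact h),
      IsClosedImmersion.lift_fac _ _ _⟩

/-- The closed subscheme over which a finite flat closed subscheme of a group scheme is a subgroup. -/
theorem exists_closed_subgroup {S : Scheme.{u}} (E : Over S) [GrpObj E] (𝓓 : E.left.IdealSheafData)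
    [IsFinite (𝓓.subschemeι ≫ E.hom)] [Flat (𝓓.subschemeι ≫ E.hom)]
    [LocallyOfFinitePresentation (𝓓.subschemeι ≫ E.hom)] :
    ∃ 𝓩 : S.IdealSheafData, ∀ (T : Scheme.{u}) (g : T ⟶ S),
      (∃ t : T ⟶ 𝓩.subscheme, t ≫ 𝓩.subschemeι = g) ↔
        ∀ (T' : Scheme.{u}) (a : T' ⟶ T), ∃ H : Subgroup (Over.mk (a ≫ g) ⟶ E),
          (H : Set (Over.mk (a ≫ g) ⟶ E)) =
            {x | ∃ d : T' ⟶ 𝓓.subscheme, d ≫ 𝓓.subschemeι = x.left} := by
  let D : Over S := Over.mk (𝓓.subschemeι ≫ E.hom)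
  let i : D ⟶ E := Over.homMk 𝓓.subschemeι rfl
  haveI : IsFinite D.hom := inferInstanceAs (IsFinite (𝓓.subschemeι ≫ E.hom))
  haveI : Flat D.hom := inferInstanceAs (Flat (𝓓.subschemeι ≫ E.hom))
  haveI : LocallyOfFinitePresentation D.hom :=
    inferInstanceAs (LocallyOfFinitePresentation (𝓓.subschemeι ≫ E.hom))
  haveI : IsFinite (D ⊗ D).hom := inferInstanceAs (IsFinite (pullback.fst D.hom D.hom ≫ D.hom))
  haveI : Flat (D ⊗ D).hom := inferInstanceAs (Flat (pullback.fst D.hom D.hom ≫ D.hom))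
  haveI : LocallyOfFinitePresentation (D ⊗ D).hom :=
    inferInstanceAs (LocallyOfFinitePresentation (pullback.fst D.hom D.hom ≫ D.hom))
  obtain ⟨Z₁, h₁⟩ := exists_closed_into (𝟙 S) (η[E]).left 𝓓
  obtain ⟨Z₂, h₂⟩ := exists_closed_into (D ⊗ D).hom ((i ⊗ₘ i) ≫ μ[E]).left 𝓓
  obtain ⟨Z₃, h₃⟩ := exists_closed_into D.hom (i ≫ ι[E]).left 𝓓
  refine ⟨Z₁ ⊔ (Z₂ ⊔ Z₃), fun T g => ?_⟩
  rw [factors_iff, sup_le_iff, sup_le_iff, h₁, h₂, h₃]
  constructor
  · rintro ⟨H₁, H₂, H₃⟩ T' a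
    refine ⟨{ carrier := {x | ∃ d : T' ⟶ 𝓓.subscheme, d ≫ 𝓓.subschemeι = x.left}
              one_mem' := ?_, mul_mem' := ?_, inv_mem' := ?_ }, rfl⟩
    · rintro x y ⟨d, hd⟩ ⟨d', hd'⟩
      let xD : Over.mk (a ≫ g) ⟶ D := Over.homMk d (by
        show d ≫ 𝓓.subschemeι ≫ E.hom = _; rw [reassoc_of% hd]; exact Over.w x)
      let yD : Over.mk (a ≫ g) ⟶ D := Over.homMk d' (by
        show d' ≫ 𝓓.subschemeι ≫ E.hom = _; rw [reassoc_of% hd']; exact Over.w y)
      have hx : xD ≫ i = x := Over.OverMorphism.ext hd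
      have hy : yD ≫ i = y := Over.OverMorphism.ext hd'
      obtain ⟨m, hm⟩ := H₂ T' a (lift xD yD).left (Over.w (lift xD yD))
      refine ⟨m, hm.trans ?_⟩
      rw [← Over.comp_left, lift_map_assoc, hx, hy, ← Hom.mul_def]
    · obtain ⟨m, hm⟩ := H₁ T' a (a ≫ g) (Category.comp_id _)
      refine ⟨m, hm.trans ?_⟩
      rw [Hom.one_def]
      rfl
    · rintro x ⟨d, hd⟩
      let xD : Over.mk (a ≫ g) ⟶ D := Over.homMk d (by
        show d ≫ 𝓓.subschemeι ≫ E.hom = _; rw [reassoc_of% hd]; exact Over.w x)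
      have hx : xD ≫ i = x := Over.OverMorphism.ext hd
      obtain ⟨m, hm⟩ := H₃ T' a d (Over.w xD)
      refine ⟨m, hm.trans ?_⟩
      show xD.left ≫ (i ≫ ι[E]).left = _
      rw [← Over.comp_left, ← Category.assoc, hx, ← Hom.inv_def]
  · intro H
    refine ⟨fun T' a z hz => ?_, fun T' a z hz => ?_, fun T' a z hz => ?_⟩
    · obtain ⟨K, hK⟩ := H T' a
      have h := K.one_mem
      rw [← SetLike.mem_coe, hK] at h
      obtain ⟨m, hm⟩ := h
      refine ⟨m, hm.trans ?_⟩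
      rw [Category.comp_id] at hz
      rw [Hom.one_def, hz]
      rfl
    · obtain ⟨K, hK⟩ := H T' a
      let zz : Over.mk (a ≫ g) ⟶ D ⊗ D := Over.homMk z hz
      have mem : ∀ w : Over.mk (a ≫ g) ⟶ D, w ≫ i ∈ K := fun w => by
        rw [← SetLike.mem_coe, hK]; exact ⟨w.left, rfl⟩
      have h := K.mul_mem (mem (zz ≫ fst D D)) (mem (zz ≫ snd D D))
      rw [← SetLike.mem_coe, hK] at h
      obtain ⟨m, hm⟩ := h
      refine ⟨m, hm.trans ?_⟩
      show _ = zz.left ≫ _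
      rw [← Over.comp_left, Hom.mul_def, ← lift_map_assoc, ← comp_lift,
        lift_fst_snd, Category.comp_id]
    · obtain ⟨K, hK⟩ := H T' a
      let zz : Over.mk (a ≫ g) ⟶ D := Over.homMk z hz
      have hmem : zz ≫ i ∈ K := by
        rw [← SetLike.mem_coe, hK]; exact ⟨z, rfl⟩
      have h := K.inv_mem hmem
      rw [← SetLike.mem_coe, hK] at h
      obtain ⟨m, hm⟩ := h
      refine ⟨m, hm.trans ?_⟩
      show _ = zz.left ≫ _
      rw [← Over.comp_left, Hom.inv_def, Category.assoc]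

end Groth.Agent.ClosedUniv5
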