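import Groth.Agent.SGA3cLib.WeilRes
import Mathlib.AlgebraicGeometry.Morphisms.Finite
import Mathlib.AlgebraicGeometry.Morphisms.FinitePresentation
import Mathlib.AlgebraicGeometry.Morphisms.Flat
import Mathlib.RingTheory.Flat.EquationalCriterion
import Mathlib.RingTheory.Finiteness.ModuleFinitePresentation
import Mathlib.AlgebraicGeometry.IdealSheaf.Functorial

/-!
# The universal closed subscheme over which one finite flat closed subscheme lies in another
-/

set_option autoImplicit false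
set_option backward.isDefEq.respectTransparency.types false

universe u

open CategoryTheory CategoryTheory.Limits AlgebraicGeometry

namespace Groth.Agent.ClosedUniv5

/-- A finite flat morphism of finite presentation is essentially free. -/
theorem essFree_of_finite_flat {Z S : Scheme.{u}} (q : Z ⟶ S) [IsFinite q] [Flat q]
    [LocallyOfFinitePresentation q] : SGA3x.IsEssentiallyFree q := by
  intro s
  obtain ⟨U, hU, hsU, -⟩ := exists_isAffineOpen_mem_and_subset (U := ⊤) (x := s) trivial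
  haveI : IsAffine (U : Scheme.{u}) := hU
  refine ⟨U, hsU, hU, (U : Scheme.{u}), inferInstance, 𝟙 _, inferInstance, inferInstance, fun x => ?_⟩
  let P := pullback q (𝟙 (U : Scheme.{u}) ≫ U.ι)
  let p : P ⟶ (U : Scheme.{u}) := pullback.snd q (𝟙 (U : Scheme.{u}) ≫ U.ι)
  haveI : IsFinite p := MorphismProperty.pullback_snd (P := @IsFinite) _ _ inferInstance
  haveI : Flat p := MorphismProperty.pullback_snd (P := @Flat) _ _ inferInstance
  haveI : LocallyOfFinitePresentation p :=
    MorphismProperty.pullback_snd (P := @LocallyOfFinitePresentation) _ _ inferInstance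
  haveI : IsAffine P := isAffine_of_isAffineHom p
  haveI : IsAffine ((⊤ : P.Opens) : Scheme.{u}) := isAffineOpen_top P
  refine ⟨⊤, trivial, isAffineOpen_top P, ?_⟩
  let φ := (⊤ : P.Opens).ι ≫ p
  haveI : IsFinite (⊤ : P.Opens).ι := by rw [← Scheme.topIso_hom]; infer_instance
  haveI : IsFinite φ := MorphismProperty.comp_mem _ _ _ ‹_› ‹_›
  have h1 : φ.appTop.hom.Finite := φ.finite_appTop
  have h2 : φ.appTop.hom.Flat := (HasRingHomProperty.iff_of_isAffine (P := @Flat)).1 inferInstance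
  have h3 : φ.appTop.hom.FinitePresentation :=
    (HasRingHomProperty.iff_of_isAffine (P := @LocallyOfFinitePresentation)).1 inferInstance
  letI := φ.appTop.hom.toAlgebra
  haveI : Module.Finite Γ((U : Scheme.{u}), ⊤) Γ((⊤ : P.Opens), ⊤) := h1
  haveI : Module.Flat Γ((U : Scheme.{u}), ⊤) Γ((⊤ : P.Opens), ⊤) := h2
  haveI : Algebra.FinitePresentation Γ((U : Scheme.{u}), ⊤) Γ((⊤ : P.Opens), ⊤) := h3
  haveI : Module.FinitePresentation Γ((U : Scheme.{u}), ⊤) Γ((⊤ : P.Opens), ⊤) :=
    Module.FinitePresentation.of_finite_of_finitePresentation _ _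
  exact Module.Flat.projective_of_finitePresentation

/-- Over which `T → S` the closed subscheme `V(𝓘')` lies in `V(𝓘)`: a closed condition. -/
theorem exists_closed_le {X S : Scheme.{u}} (f : X ⟶ S) (𝓘 𝓘' : X.IdealSheafData)
    [IsFinite (𝓘'.subschemeι ≫ f)] [Flat (𝓘'.subschemeι ≫ f)]
    [LocallyOfFinitePresentation (𝓘'.subschemeι ≫ f)] :
    ∃ 𝓩 : S.IdealSheafData, ∀ (T : Scheme.{u}) (g : T ⟶ S),
      ((∃ t : T ⟶ 𝓩.subscheme, t ≫ 𝓩.subschemeι = g) ↔
        𝓘.comap (pullback.fst f g) ≤ 𝓘'.comap (pullback.fst f g)) := by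
  obtain ⟨Z, i, hi, hZ, -⟩ := SGA3cLib.WeilRes.exists_closedImmersion (𝓘'.subschemeι ≫ f)
    (pullback.snd 𝓘.subschemeι 𝓘'.subschemeι) (essFree_of_finite_flat _)
  refine ⟨i.ker, fun T g => ?_⟩
  have hfac : (∃ t : T ⟶ i.ker.subscheme, t ≫ i.ker.subschemeι = g) ↔ ∃ z, z ≫ i = g := by
    constructor
    · rintro ⟨t, rfl⟩
      exact ⟨t ≫ inv i.toImage, by
        rw [Category.assoc, IsIso.inv_comp_eq _ |>.2 i.toImage_imageι.symm]⟩
    · rintro ⟨z, rfl⟩
      exact ⟨z ≫ i.toImage, by rw [Category.assoc]; exact congrArg (z ≫ ·) i.toImage_imageι⟩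
  rw [hfac, ← hZ T g]
  let p := pullback.fst f g
  let q := 𝓘'.subschemeι ≫ f
  let m := pullback.map q g f g 𝓘'.subschemeι (𝟙 T) (𝟙 S) (by simp [q]) (by simp)
  have hm1 : m ≫ pullback.snd f g = pullback.snd q g := (pullback.lift_snd _ _ _).trans (Category.comp_id _)
  have hm2 : m ≫ pullback.fst f g = pullback.fst q g ≫ 𝓘'.subschemeι := pullback.lift_fst _ _ _
  have hW : IsPullback m (pullback.fst q g) p 𝓘'.subschemeι := by
    refine IsPullback.of_right ?_ hm2 (IsPullback.of_hasPullback f g).flip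
    rw [hm1]
    exact (IsPullback.of_hasPullback q g).flip
  unfold SGA3cLib.WeilRes.Factors
  rw [← Scheme.IdealSheafData.le_map_iff_comap_le, Scheme.IdealSheafData.map]
  have e : (∃ m, m ≫ 𝓘.subschemeι = (𝓘'.comap p).subschemeι ≫ p) ↔
      𝓘 ≤ ((𝓘'.comap p).subschemeι ≫ p).ker := by
    constructor
    · rintro ⟨m, hm⟩
      conv_lhs => rw [← 𝓘.ker_subschemeι]
      rw [← hm]
      exact Scheme.Hom.le_ker_comp _ _
    · intro h
      exact ⟨IsClosedImmersion.lift 𝓘.subschemeι _ (by rw [Scheme.IdealSheafData.ker_subschemeι]; exact h),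
        IsClosedImmersion.lift_fac _ _ _⟩
  rw [← e]
  let a := (𝓘'.comapIso p).hom ≫ hW.isoPullback.inv
  have ha : (𝓘'.comap p).subschemeι ≫ p = a ≫ pullback.fst q g ≫ 𝓘'.subschemeι := by
    simp only [a, Category.assoc, IsPullback.isoPullback_inv_snd_assoc, ← pullback.condition,
      Scheme.IdealSheafData.comapIso_hom_fst_assoc]
  constructor
  · rintro ⟨l, hl⟩
    refine ⟨a ≫ l ≫ pullback.fst _ _, ?_⟩
    rw [ha, ← hl]
    simp only [Category.assoc, pullback.condition]
  · rintro ⟨m, hm⟩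
    refine ⟨pullback.lift (inv a ≫ m) (pullback.fst q g) ?_, pullback.lift_snd _ _ _⟩
    rw [Category.assoc, hm, ha, IsIso.inv_hom_id_assoc]

end Groth.Agent.ClosedUniv5
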